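import Groth.Prelude.Def_ModSite
import Mathlib.Algebra.Category.ModuleCat.ChangeOfRings
import Mathlib.Algebra.Category.ModuleCat.Sheaf.Quasicoherent
import Mathlib.Algebra.Category.ModuleCat.Presheaf.Colimits
import Mathlib.Algebra.Category.ModuleCat.Presheaf.Limits
import Mathlib.Algebra.Category.ModuleCat.Descent
import Mathlib.Algebra.Homology.ShortComplex.ExactFunctor

/-!
Sheaves of modules for the chaotic topology: evaluation, base change, presentations.
-/

set_option autoImplicit false
set_option linter.style.haveILetI false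
set_option backward.isDefEq.respectTransparency false
set_option backward.isDefEq.respectTransparency.types false
universe u

open CategoryTheory CategoryTheory.Limits Opposite

noncomputable section

namespace Groth.Agent.ChaoticQC

theorem isSheaf_of_eq_bot {D : Type u} [SmallCategory D] {J : GrothendieckTopology D} (hJ : J = ⊥)
    {A : Type (u + 1)} [Category.{u} A] (P : Dᵒᵖ ⥤ A) : Presheaf.IsSheaf J P := by
  subst hJ
  exact Presheaf.isSheaf_bot P

theorem over_bot {C : Type u} [SmallCategory C] (X : C) :
    (⊥ : GrothendieckTopology C).over X = (⊥ : GrothendieckTopology (Over X)) := by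
  refine GrothendieckTopology.ext (funext fun Y => Set.ext fun S => ?_)
  rw [GrothendieckTopology.mem_over_iff, GrothendieckTopology.bot_covering,
    GrothendieckTopology.bot_covering]
  exact (Sieve.overEquiv Y).injective.eq_iff' (map_top _)

variable {D : Type u} [SmallCategory D] {J : GrothendieckTopology D}
  (A : Sheaf J CommRingCat.{u})

/-- Evaluation at an object. -/
abbrev ev (U : D) : ModSite.Mod A ⥤ ModuleCat.{u} (A.obj.obj (op U)) :=
  SheafOfModules.evaluation (R := ModSite.ringSh A) (op U)

theorem forget_isEquivalence (hJ : J = ⊥) :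
    (SheafOfModules.forget.{u} (ModSite.ringSh A)).IsEquivalence := by
  haveI : (SheafOfModules.forget.{u} (ModSite.ringSh A)).EssSurj :=
    ⟨fun P => ⟨⟨P, isSheaf_of_eq_bot hJ _⟩, ⟨Iso.refl _⟩⟩⟩
  exact { }

theorem ev_preservesColimits (hJ : J = ⊥) (U : D) :
    PreservesColimitsOfSize.{u, u} (ev A U) := by
  haveI := forget_isEquivalence A hJ
  exact inferInstanceAs (PreservesColimitsOfSize.{u, u}
    (SheafOfModules.forget.{u} (ModSite.ringSh A) ⋙ PresheafOfModules.evaluation _ (op U)))

theorem ev_preservesFiniteLimits (hJ : J = ⊥) (U : D) : PreservesFiniteLimits (ev A U) := by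
  haveI := forget_isEquivalence A hJ
  exact inferInstanceAs (PreservesFiniteLimits
    (SheafOfModules.forget.{u} (ModSite.ringSh A) ⋙ PresheafOfModules.evaluation _ (op U)))

/-- Restriction of functions. -/
abbrev res {U V : D} (g : U ⟶ V) : A.obj.obj (op V) →+* A.obj.obj (op U) := (A.obj.map g.op).hom

/-- The base change map. -/
def bc {U V : D} (g : U ⟶ V) (F : ModSite.Mod A) :
    (ModuleCat.extendScalars (res A g)).obj ((ev A V).obj F) ⟶ (ev A U).obj F :=
  ((ModuleCat.extendRestrictScalarsAdj (res A g)).homEquiv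
    (F.val.obj (op V) : ModuleCat.{u} (A.obj.obj (op V)))
    (F.val.obj (op U) : ModuleCat.{u} (A.obj.obj (op U)))).symm (F.val.map g.op)

/-- The base change map as a natural transformation. -/
def bcNat {U V : D} (g : U ⟶ V) : ev A V ⋙ ModuleCat.extendScalars (res A g) ⟶ ev A U where
  app F := bc A g F
  naturality {F G} α := by
    dsimp only [Functor.comp_map, Functor.comp_obj, bc]
    refine (Adjunction.homEquiv_naturality_left_symm _ _ _).symm.trans ?_
    refine Eq.trans ?_ (Adjunction.homEquiv_naturality_right_symm _ _ _)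
    exact congrArg _ ((PresheafOfModules.restriction _ g.op).naturality α.val)

theorem bc_tmul {U V : D} (g : U ⟶ V) (F : ModSite.Mod A) (m : ModSite.sect F V) :
    bc A g F ((1 : A.obj.obj (op U)) ⊗ₜ m) = F.val.map g.op m := by
  refine (ModuleCat.extendRestrictScalarsAdj_homEquiv_apply (f := res A g)
    (M := (F.val.obj (op V) : ModuleCat.{u} (A.obj.obj (op V))))
    (N := (F.val.obj (op U) : ModuleCat.{u} (A.obj.obj (op U)))) (bc A g F) m).symm.trans ?_
  exact congrArg (fun φ : (F.val.obj (op V) : ModuleCat.{u} (A.obj.obj (op V))) ⟶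
    (ModuleCat.restrictScalars (res A g)).obj (F.val.obj (op U) : ModuleCat.{u} (A.obj.obj (op U))) => φ m)
    (((ModuleCat.extendRestrictScalarsAdj (res A g)).homEquiv _ _).apply_symm_apply _)

theorem isIso_bc_unit {U V : D} (g : U ⟶ V) : IsIso (bc A g (ModSite.unit A)) := by
  rw [ConcreteCategory.isIso_iff_bijective]
  letI : Algebra (A.obj.obj (op V)) (A.obj.obj (op U)) := (res A g).toAlgebra
  have h1 : bc A g (ModSite.unit A) ((1 : A.obj.obj (op U)) ⊗ₜ (1 : A.obj.obj (op V))) =
      (1 : A.obj.obj (op U)) :=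
    (bc_tmul A g (ModSite.unit A) (1 : A.obj.obj (op V))).trans (map_one (res A g))
  have h2 : ∀ a : A.obj.obj (op U), bc A g (ModSite.unit A)
      (a • ((1 : A.obj.obj (op U)) ⊗ₜ (1 : A.obj.obj (op V)))) = a := fun a =>
    ((bc A g (ModSite.unit A)).hom.map_smul a _).trans ((congrArg (a • ·) h1).trans (mul_one a))
  have h3 : ∀ z, ∃ a : A.obj.obj (op U), z = a • ((1 : A.obj.obj (op U)) ⊗ₜ (1 : A.obj.obj (op V)) :
      (ModuleCat.extendScalars (res A g)).obj ((ev A V).obj (ModSite.unit A))) := by
    intro z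
    induction z using TensorProduct.induction_on with
    | zero => exact ⟨0, (zero_smul _ _).symm⟩
    | tmul s r =>
      let s' : A.obj.obj (op U) := s
      refine ⟨s' * res A g r, ?_⟩
      let r' : A.obj.obj (op V) := r
      refine Eq.trans (congrArg (fun x : A.obj.obj (op V) => s ⊗ₜ[A.obj.obj (op V)] x) (mul_one r').symm) ?_
      refine Eq.trans (TensorProduct.smul_tmul r' s (1 : A.obj.obj (op V))).symm ?_
      refine Eq.trans ?_ (ModuleCat.ExtendScalars.smul_tmul (res A g) (s' * res A g r) 1 _).symm
      exact congrArg (fun x => x ⊗ₜ[A.obj.obj (op V)] (1 : A.obj.obj (op V)))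
        ((mul_comm (res A g r) s').trans (mul_one _).symm)
    | add a b ha hb =>
      obtain ⟨a', rfl⟩ := ha
      obtain ⟨b', rfl⟩ := hb
      exact ⟨a' + b', (add_smul _ _ _).symm⟩
  refine ⟨fun z z' e => ?_, fun a => ⟨_, h2 a⟩⟩
  obtain ⟨a, rfl⟩ := h3 z
  obtain ⟨a', rfl⟩ := h3 z'
  rw [(h2 a).symm.trans (e.trans (h2 a'))]

theorem isIso_bc_free (hJ : J = ⊥) {U V : D} (g : U ⟶ V) (I : Type u) :
    IsIso (bc A g (SheafOfModules.free I)) := by
  haveI := ev_preservesColimits A hJ U
  haveI := ev_preservesColimits A hJ V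
  haveI : ∀ i : Discrete I, IsIso ((Functor.whiskerLeft (Discrete.functor fun _ : I => ModSite.unit A)
      (bcNat A g)).app i) := fun _ => isIso_bc_unit A g
  haveI : IsIso (Functor.whiskerLeft (Discrete.functor fun _ : I => ModSite.unit A) (bcNat A g)) :=
    NatIso.isIso_of_isIso_app _
  exact isIso_app_coconePt_of_preservesColimit _ (bcNat A g)
    (colimit.cocone (Discrete.functor fun _ : I => ModSite.unit A)) (colimit.isColimit _)

theorem isIso_bc_cokernel (hJ : J = ⊥) {U V : D} (g : U ⟶ V) {F G : ModSite.Mod A} (f : F ⟶ G)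
    [IsIso (bc A g F)] [IsIso (bc A g G)] : IsIso (bc A g (cokernel f)) := by
  haveI := ev_preservesColimits A hJ U
  haveI := ev_preservesColimits A hJ V
  haveI : PreservesColimitsOfSize.{0, 0} (ev A U) := preservesColimitsOfSize_shrink _
  haveI : PreservesColimitsOfSize.{0, 0} (ev A V) := preservesColimitsOfSize_shrink _
  haveI : PreservesColimitsOfSize.{0, 0} (ev A V ⋙ ModuleCat.extendScalars (res A g)) :=
    preservesColimitsOfSize_shrink _
  haveI : ∀ i : WalkingParallelPair, IsIso ((Functor.whiskerLeft (parallelPair f 0)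
      (bcNat A g)).app i) := fun i => match i with
    | .zero => ‹IsIso (bc A g F)›
    | .one => ‹IsIso (bc A g G)›
  haveI : IsIso (Functor.whiskerLeft (parallelPair f 0) (bcNat A g)) :=
    NatIso.isIso_of_isIso_app _
  exact isIso_app_coconePt_of_preservesColimit _ (bcNat A g) (colimit.cocone (parallelPair f 0))
    (colimit.isColimit _)

theorem isIso_bc_of_iso {U V : D} (g : U ⟶ V) {F G : ModSite.Mod A} (e : F ≅ G)
    [IsIso (bc A g F)] : IsIso (bc A g G) := by
  haveI : IsIso ((bcNat A g).app F) := ‹_›
  exact (NatTrans.isIso_app_iff_of_iso (bcNat A g) e).1 ‹_›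

theorem isIso_bc_of_presentation (hJ : J = ⊥) {U V : D} (g : U ⟶ V) {F : ModSite.Mod A}
    (P : SheafOfModules.Presentation F) : IsIso (bc A g F) := by
  haveI := isIso_bc_free A hJ g P.generators.I
  haveI := isIso_bc_free A hJ g P.relations.I
  have h := isIso_bc_cokernel A hJ g
    ((SheafOfModules.freeHomEquiv _).symm P.relations.s ≫ kernel.ι P.generators.π)
  exact @isIso_bc_of_iso _ _ _ A _ _ g _ _ ((cokernelIsCokernel _).coconePointUniqueUpToIso P.isColimit) h

theorem isIso_bc_kernel (hJ : J = ⊥) {U V : D} (g : U ⟶ V) (hg : (res A g).Flat)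
    {F G : ModSite.Mod A} (f : F ⟶ G)
    [IsIso (bc A g F)] [IsIso (bc A g G)] : IsIso (bc A g (kernel f)) := by
  haveI := ev_preservesFiniteLimits A hJ U
  haveI := ev_preservesFiniteLimits A hJ V
  haveI : PreservesFiniteLimits (ModuleCat.extendScalars.{u, u, u} (res A g)) :=
    ModuleCat.preservesFiniteLimits_extendScalars_of_flat hg
  haveI h1 : IsIso ((bcNat A g).app F) := ‹IsIso (bc A g F)›
  haveI h2 : IsIso ((bcNat A g).app G) := ‹IsIso (bc A g G)›
  let T := ev A V ⋙ ModuleCat.extendScalars (res A g)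
  haveI : T.PreservesZeroMorphisms := inferInstance
  let φ : kernel (T.map f) ⟶ kernel ((ev A U).map f) :=
    kernel.map _ _ ((bcNat A g).app F) ((bcNat A g).app G) ((bcNat A g).naturality f)
  haveI : IsIso φ :=
    inferInstanceAs (IsIso (kernel.mapIso _ _ (asIso ((bcNat A g).app F))
      (asIso ((bcNat A g).app G)) ((bcNat A g).naturality f)).hom)
  have e : bc A g (kernel f) ≫ kernelComparison f (ev A U) = kernelComparison f T ≫ φ := by
    refine (cancel_mono (kernel.ι ((ev A U).map f))).1 ?_
    refine (Category.assoc _ _ _).trans ?_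
    rw [kernelComparison_comp_ι]
    refine Eq.trans ?_ (Category.assoc _ _ _).symm
    simp only [φ, kernel.lift_ι]
    rw [← Category.assoc, kernelComparison_comp_ι]
    exact ((bcNat A g).naturality (kernel.ι f)).symm
  have : IsIso (bc A g (kernel f) ≫ kernelComparison f (ev A U)) := e ▸ inferInstance
  exact IsIso.of_isIso_comp_right _ (kernelComparison f (ev A U))

theorem isIso_bc_middle (hJ : J = ⊥) {U V : D} (g : U ⟶ V) (hg : (res A g).Flat)
    (S : ShortComplex (ModSite.Mod A)) (hS : S.ShortExact)
    [h₁ : IsIso (bc A g S.X₁)] [h₃ : IsIso (bc A g S.X₃)] : IsIso (bc A g S.X₂) := by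
  haveI := ev_preservesColimits A hJ U
  haveI := ev_preservesColimits A hJ V
  haveI : PreservesColimitsOfSize.{0, 0} (ev A U) := preservesColimitsOfSize_shrink _
  haveI : PreservesColimitsOfSize.{0, 0} (ev A V) := preservesColimitsOfSize_shrink _
  haveI := ev_preservesFiniteLimits A hJ U
  haveI := ev_preservesFiniteLimits A hJ V
  haveI : PreservesFiniteLimits (ModuleCat.extendScalars.{u, u, u} (res A g)) :=
    ModuleCat.preservesFiniteLimits_extendScalars_of_flat hg
  let T := ev A V ⋙ ModuleCat.extendScalars (res A g)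
  haveI : PreservesColimitsOfSize.{0, 0} T := preservesColimitsOfSize_shrink _
  haveI : T.PreservesZeroMorphisms := inferInstance
  let φ := S.mapNatTrans (bcNat A g)
  haveI : IsIso φ.τ₁ := h₁
  haveI : IsIso φ.τ₃ := h₃
  exact ShortComplex.isIso₂_of_shortExact_of_isIso₁₃ φ (hS.map_of_exact T) (hS.map_of_exact (ev A U))

theorem exists_section {T : D} (hT : IsTerminal T) (F : ModSite.Mod A) (e : ModSite.sect F T) :
    ∃ s : F.sections, s.val (op T) = e := by
  refine ⟨⟨fun X => F.val.map (hT.from X.unop).op e, fun {X Y} f => ?_⟩, ?_⟩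
  · show F.val.map f (F.val.map (hT.from X.unop).op e) = _
    rw [← PresheafOfModules.map_comp_apply]
    show F.val.map ((hT.from X.unop).op ≫ f) e = F.val.map (hT.from Y.unop).op e
    rw [show (hT.from X.unop).op ≫ f = (hT.from Y.unop).op from
      Quiver.Hom.unop_inj (hT.hom_ext _ _)]
  · show F.val.map (hT.from T).op e = e
    rw [hT.hom_ext (hT.from T) (𝟙 T)]
    exact (ConcreteCategory.congr_hom (F.val.map_id (op T)) e)

theorem exists_surjective_free {T : D} (hT : IsTerminal T) (F : ModSite.Mod A) :
    ∃ (I : Type u) (π : SheafOfModules.free I ⟶ F), Epi ((ev A T).map π) := by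
  choose s hs using fun e : ModSite.sect F T => exists_section A hT F e
  refine ⟨ModSite.sect F T, F.freeHomEquiv.symm s, ?_⟩
  rw [ModuleCat.epi_iff_surjective]
  intro e
  refine ⟨(SheafOfModules.ιFree (R := ModSite.ringSh A) e).val.app (op T)
    (1 : (ModSite.ringSh A).obj.obj (op T)), ?_⟩
  have h := SheafOfModules.freeHomEquiv_apply (F.freeHomEquiv.symm s) e
  rw [Equiv.apply_symm_apply] at h
  exact ((congrArg (fun t : F.sections => t.val (op T)) h).symm.trans (hs e))

theorem exists_presentation (hJ : J = ⊥) {T : D} (hT : IsTerminal T) (F : ModSite.Mod A)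
    (hF : ∀ U : D, IsIso (bc A (hT.from U) F)) : Nonempty (SheafOfModules.Presentation F) := by
  haveI := ev_preservesFiniteLimits A hJ T
  haveI := ev_preservesColimits A hJ T
  haveI : PreservesColimitsOfSize.{0, 0} (ev A T) := preservesColimitsOfSize_shrink _
  obtain ⟨I, π, hπ⟩ := exists_surjective_free A hT F
  obtain ⟨I', ρ, hρ⟩ := exists_surjective_free A hT (kernel π)
  let f := ρ ≫ kernel.ι π
  have w : f ≫ π = 0 := by simp [f]
  let θ : cokernel f ⟶ F := cokernel.desc f π w
  let S : ShortComplex (ModSite.Mod A) := ShortComplex.mk f π w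
  let K : ShortComplex (ModSite.Mod A) := ShortComplex.mk (kernel.ι π) π (kernel.condition π)
  let φ : S.map (ev A T) ⟶ K.map (ev A T) :=
    { τ₁ := (ev A T).map ρ, τ₂ := 𝟙 _, τ₃ := 𝟙 _,
      comm₁₂ := by simp [S, K, f], comm₂₃ := by simp [S, K] }
  haveI : Epi φ.τ₁ := hρ
  haveI : IsIso φ.τ₂ := inferInstanceAs (IsIso (𝟙 _))
  haveI : Mono φ.τ₃ := inferInstanceAs (Mono (𝟙 _))
  have hex : (S.map (ev A T)).Exact := by
    refine (ShortComplex.exact_iff_of_epi_of_isIso_of_mono φ).2 ?_
    exact (ShortComplex.exact_of_f_is_kernel K (kernelIsKernel π)).map (ev A T)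
  haveI : Epi (S.map (ev A T)).g := hπ
  haveI hθT : IsIso ((ev A T).map θ) := by
    let c : CokernelCofork ((ev A T).map f) := CokernelCofork.ofπ ((ev A T).map π)
      (by rw [← Functor.map_comp, w, Functor.map_zero])
    have hc : IsColimit c := hex.gIsCokernel
    have hc' : IsColimit (CokernelCofork.ofπ ((ev A T).map (cokernel.π f))
        (by rw [← Functor.map_comp, cokernel.condition, Functor.map_zero]) :
          CokernelCofork ((ev A T).map f)) :=
      CokernelCofork.mapIsColimit (CokernelCofork.ofπ (cokernel.π f) (cokernel.condition f))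
        (cokernelIsCokernel f) (ev A T)
    have e : (ev A T).map θ = (hc'.coconePointUniqueUpToIso hc).hom := by
      refine Cofork.IsColimit.hom_ext hc' ?_
      rw [IsColimit.comp_coconePointUniqueUpToIso_hom hc' hc WalkingParallelPair.one |>
        (fun h => show Cofork.π _ ≫ _ = Cofork.π c from h)]
      show (ev A T).map (cokernel.π f) ≫ (ev A T).map θ = (ev A T).map π
      rw [← Functor.map_comp, cokernel.π_desc]
    rw [e]
    infer_instance
  haveI : IsIso θ := by
    haveI : ∀ U : Dᵒᵖ, IsIso (θ.val.app U) := fun U => by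
      obtain ⟨U⟩ := U
      haveI := isIso_bc_free A hJ (hT.from U) I
      haveI := isIso_bc_free A hJ (hT.from U) I'
      haveI := isIso_bc_cokernel A hJ (hT.from U) f
      haveI : IsIso ((bcNat A (hT.from U)).app (cokernel f)) :=
        ‹IsIso (bc A (hT.from U) (cokernel f))›
      haveI : IsIso ((bcNat A (hT.from U)).app F) := hF U
      haveI : IsIso ((ev A T ⋙ ModuleCat.extendScalars (res A (hT.from U))).map θ) := by
        rw [Functor.comp_map]; infer_instance
      have := (bcNat A (hT.from U)).naturality θ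
      have h : IsIso ((bcNat A (hT.from U)).app (cokernel f) ≫ (ev A U).map θ) := by
        rw [← this]; infer_instance
      exact @IsIso.of_isIso_comp_left _ _ _ _ _ ((bcNat A (hT.from U)).app (cokernel f)) _ inferInstance h
    haveI : IsIso ((SheafOfModules.forget (ModSite.ringSh A)).map θ) :=
      (PresheafOfModules.isoMk (fun U => asIso (θ.val.app U)) (fun _ _ g => θ.val.naturality g)).isIso_hom
    exact isIso_of_reflects_iso θ (SheafOfModules.forget (ModSite.ringSh A))
  exact ⟨(SheafOfModules.presentationOfIsCokernelFree f (cokernel.π f) (cokernel.condition f)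
    (cokernelIsCokernel f)).ofIsIso θ⟩

end Groth.Agent.ChaoticQC
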