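import Groth.Agent.ChaoticQC.Basic
import Mathlib.RingTheory.RingHom.Flat

/-!
Quasi-coherent modules for the chaotic topology.
-/

set_option autoImplicit false
set_option linter.style.haveILetI false
set_option backward.isDefEq.respectTransparency false
set_option backward.isDefEq.respectTransparency.types false
universe u

open CategoryTheory CategoryTheory.Limits Opposite

noncomputable section

namespace Groth.Agent.ChaoticQC

variable {C : Type u} [SmallCategory C] (O : Sheaf (⊥ : GrothendieckTopology C) CommRingCat.{u})

theorem isIso_bc_over {X : C} {A B : Over X} (g : A ⟶ B) (F : ModSite.Mod O) :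
    IsIso (bc (O.over X) g (F.over X)) ↔ IsIso (bc O g.left F) := by
  delta bc
  exact Iff.rfl

theorem isQuasicoherent_iff (F : ModSite.Mod O) :
    SheafOfModules.IsQuasicoherent (R := ModSite.ringSh O) F ↔
      ∀ (U V : C) (g : U ⟶ V), IsIso (bc O g F) := by
  constructor
  · intro hF U V g
    obtain ⟨⟨q⟩⟩ := hF
    have h := q.coversTop V
    rw [GrothendieckTopology.bot_covering] at h
    have hV : (Sieve.ofObjects q.X V) (𝟙 V) := by rw [h]; trivial
    obtain ⟨i, ⟨k⟩⟩ := (Sieve.mem_ofObjects_iff ..).1 hV
    have h := (isIso_bc_over O (Over.homMk g : Over.mk (g ≫ k) ⟶ Over.mk k) F).1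
      (isIso_bc_of_presentation (O.over (q.X i)) (over_bot _) _ (q.presentation i))
    exact h
  · intro hF
    have hP : ∀ V : C, Nonempty ((F.over V).Presentation) := fun V =>
      exists_presentation (O.over V) (over_bot V) (Over.mkIdTerminal (X := V)) (F.over V)
        (fun W => (isIso_bc_over O ((Over.mkIdTerminal (X := V)).from W) F).2
          (hF _ _ ((Over.mkIdTerminal (X := V)).from W).left))
    let q : SheafOfModules.QuasicoherentData.{u} (R := ModSite.ringSh O) F :=
      { I := C
        X := id
        coversTop := fun Y => GrothendieckTopology.covering_of_eq_top _ <| by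
          rw [Sieve.ext_iff]
          intro Z f
          simp [Sieve.top_apply]
        presentation := fun V => (hP V).some }
    exact q.isQuasicoherent

theorem weakSerre (hO : ∀ (U V : C) (g : U ⟶ V), (O.obj.map g.op).hom.Flat) :
    (∀ (F G : ModSite.Mod O) (α : F ⟶ G), SheafOfModules.IsQuasicoherent (R := ModSite.ringSh O) F →
      SheafOfModules.IsQuasicoherent (R := ModSite.ringSh O) G →
        SheafOfModules.IsQuasicoherent (R := ModSite.ringSh O) (kernel α) ∧
          SheafOfModules.IsQuasicoherent (R := ModSite.ringSh O) (cokernel α)) ∧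
    (∀ (S : ShortComplex (ModSite.Mod O)), S.ShortExact →
      SheafOfModules.IsQuasicoherent (R := ModSite.ringSh O) S.X₁ →
      SheafOfModules.IsQuasicoherent (R := ModSite.ringSh O) S.X₃ →
      SheafOfModules.IsQuasicoherent (R := ModSite.ringSh O) S.X₂) := by
  simp only [isQuasicoherent_iff]
  refine ⟨fun F G α hF hG => ⟨fun U V g => ?_, fun U V g => ?_⟩, fun S hS h₁ h₃ U V g => ?_⟩
  · haveI := hF U V g
    haveI := hG U V g
    exact isIso_bc_kernel O rfl g (hO U V g) α
  · haveI := hF U V g
    haveI := hG U V g
    exact isIso_bc_cokernel O rfl g α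
  · haveI := h₁ U V g
    haveI := h₃ U V g
    exact isIso_bc_middle O rfl g (hO U V g) S hS

end Groth.Agent.ChaoticQC
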